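import Mathlib

/-!
# Finite domains over a DVR which stay domains over the algebraically closed generic point
-/

set_option autoImplicit false

universe u

open TensorProduct

namespace Groth.Agent.DVRProper

variable {R : Type u} [CommRing R] [IsDomain R] [IsDiscreteValuationRing R]

theorem algebraMap_bijective_of_domain (Ω : Type u) [Field Ω] [IsAlgClosed Ω] [Algebra R Ω]
    (hΩ : Function.Injective (algebraMap R Ω)) {S B : Type u} [CommRing S] [IsDomain S] [Algebra R S]
    [Module.Finite R S] (hS : Function.Injective (algebraMap R S)) [CommRing B] [Algebra R B]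
    (φ : S →ₐ[R] B) (hφ : Function.Injective φ) [IsDomain (Ω ⊗[R] B)] :
    Function.Bijective (algebraMap R S) := by
  haveI : Module.IsTorsionFree R Ω := Module.isTorsionFree_iff_algebraMap_injective.mpr hΩ
  haveI : Module.IsTorsionFree R S := Module.isTorsionFree_iff_algebraMap_injective.mpr hS
  haveI : Module.Flat R Ω := inferInstance
  haveI : Module.Free R S := Module.free_of_finite_type_torsion_free'
  let ψ : Ω ⊗[R] S →ₐ[Ω] Ω ⊗[R] B := Algebra.TensorProduct.map (AlgHom.id Ω Ω) φ
  have hψ : Function.Injective ψ :=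
    Module.Flat.lTensor_preserves_injective_linearMap φ.toLinearMap hφ
  haveI : IsDomain (Ω ⊗[R] S) := Function.Injective.isDomain ψ.toRingHom hψ
  haveI : Module.Finite Ω (Ω ⊗[R] S) := inferInstance
  haveI : Algebra.IsIntegral Ω (Ω ⊗[R] S) := Algebra.IsIntegral.of_finite Ω _
  have hb := IsAlgClosed.algebraMap_bijective_of_isIntegral (k := Ω) (K := Ω ⊗[R] S)
  have h1 : Module.finrank R S = 1 := by
    rw [← Module.finrank_baseChange (R := Ω) (S := R) (M' := S)]
    rw [← LinearEquiv.finrank_eq (AlgEquiv.ofBijective (Algebra.ofId Ω (Ω ⊗[R] S)) hb).toLinearEquiv,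
      Module.finrank_self]
  refine ⟨hS, ?_⟩
  let b := (Module.finBasisOfFinrankEq R S h1)
  have hspan : ∀ z : S, ∃ r : R, z = r • b 0 := fun z => ⟨b.repr z 0, by
    conv_lhs => rw [← b.sum_repr z, Fin.sum_univ_one]⟩
  obtain ⟨r, hr⟩ := hspan 1
  obtain ⟨s, hs⟩ := hspan (b 0 * b 0)
  have hrs : (r * s - 1) • b 0 = 0 := by
    rw [sub_smul, one_smul, mul_smul, ← hs, ← smul_mul_assoc, ← hr, _root_.one_mul, sub_self]
  have hu : r * s = 1 := by
    rcases smul_eq_zero.mp hrs with h | h
    · exact sub_eq_zero.mp h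
    · exact absurd h (b.ne_zero 0)
  intro z
  obtain ⟨t, ht⟩ := hspan z
  refine ⟨t * s, ?_⟩
  rw [Algebra.algebraMap_eq_smul_one, hr, smul_smul, ht, show t * s * r = t * (r * s) by ring, hu,
    _root_.mul_one]

end Groth.Agent.DVRProper
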