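import Groth.Agent.DVRProper.Alg
import Groth.Agent.ChowLib.Integral
import Groth.Agent.ZMT.FiniteFactor
import Groth.Agent.SchImageLib.Reduced
import Groth.Agent.FormalFun.Stein
import Groth.Agent.UnitsProd.Scheme
import Mathlib

/-!
# Properness over a DVR from the two fibres
-/

set_option autoImplicit false

universe u

open CategoryTheory Limits AlgebraicGeometry CohB1 TensorProduct

namespace Groth.Agent.DVRProper

variable {R : Type u} [CommRing R] [IsDomain R] [IsDiscreteValuationRing R] (K : Type u) [Field K]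
  [Algebra R K] [IsFractionRing R K]

variable (R) in
/-- the generic point -/
noncomputable abbrev sK : Spec (CommRingCat.of K) ⟶ Spec (CommRingCat.of R) :=
  Spec.map (CommRingCat.ofHom (algebraMap R K))

variable (R) in
/-- the closed point -/
noncomputable abbrev sk :
    Spec (CommRingCat.of (IsLocalRing.ResidueField R)) ⟶ Spec (CommRingCat.of R) :=
  Spec.map (CommRingCat.ofHom (IsLocalRing.residue R))

lemma isOpenImmersion_sK : IsOpenImmersion (sK R K) := by
  obtain ⟨ϖ, hϖ⟩ := IsDiscreteValuationRing.exists_irreducible R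
  haveI : IsLocalization.Away ϖ K := by
    refine IsLocalization.Away.mk ϖ ?_ (fun z => ?_) (fun a b h => ⟨0, by
      rw [IsFractionRing.injective R K h]⟩)
    · exact isUnit_iff_ne_zero.mpr
        ((map_ne_zero_iff _ (IsFractionRing.injective R K)).mpr hϖ.ne_zero)
    · obtain ⟨a, b, hb, rfl⟩ := IsFractionRing.div_surjective (A := R) z
      obtain ⟨n, v, hv⟩ := IsDiscreteValuationRing.eq_unit_mul_pow_irreducible (nonZeroDivisors.ne_zero hb) hϖ
      refine ⟨n, a * (↑v⁻¹ : R), ?_⟩
      have h1 : algebraMap R K b ≠ 0 :=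
        (map_ne_zero_iff _ (IsFractionRing.injective R K)).mpr (nonZeroDivisors.ne_zero hb)
      rw [div_mul_eq_mul_div, div_eq_iff h1, ← map_pow, ← map_mul, ← map_mul, hv]
      congr 1
      rw [show a * ↑v⁻¹ * (↑v * ϖ ^ n) = a * (↑v⁻¹ * ↑v) * ϖ ^ n by ring, Units.inv_mul, _root_.mul_one]
  exact IsOpenImmersion.of_isLocalization ϖ

lemma range_cases (p : ↥(Spec (CommRingCat.of R))) :
    p ∈ Set.range (sK R K) ∨ p ∈ Set.range (sk R) := by
  rcases eq_or_ne (p : PrimeSpectrum R).asIdeal ⊥ with h | h
  · refine Or.inl ⟨(⊥ : PrimeSpectrum K), PrimeSpectrum.ext ?_⟩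
    rw [h]
    change Ideal.comap (algebraMap R K) ⊥ = ⊥
    rw [← RingHom.ker_eq_comap_bot, (RingHom.injective_iff_ker_eq_bot (algebraMap R K)).mp (IsFractionRing.injective R K)]
  · refine Or.inr ⟨(⊥ : PrimeSpectrum (IsLocalRing.ResidueField R)), PrimeSpectrum.ext ?_⟩
    change Ideal.comap (IsLocalRing.residue R) ⊥ = _
    rw [← RingHom.ker_eq_comap_bot, IsLocalRing.ker_residue]
    haveI := (p : PrimeSpectrum R).2
    exact (IsLocalRing.eq_maximalIdeal
      (IsPrime.to_maximal_ideal (R := R) h)).symm

/-- points over a point of the base -/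
lemma mem_range_fst {X S T : Scheme.{u}} (f : X ⟶ S) (s : T ⟶ S) {x : X} (h : f x ∈ Set.range s) :
    x ∈ Set.range (pullback.fst f s) := by
  rw [Scheme.Pullback.range_fst]
  exact h

variable {X : Scheme.{u}} (f : X ⟶ Spec (CommRingCat.of R))

/-- affine opens of `X` give algebras which stay domains over the geometric generic point -/
lemma isDomain_baseChange [GeometricallyIntegral (pullback.snd f (sK R K))] {B : Type u} [CommRing B]
    [Algebra R B] (e : Spec (CommRingCat.of B) ⟶ X) [IsOpenImmersion e]
    (he : e ≫ f = Spec.map (CommRingCat.ofHom (algebraMap R B)))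
    (hinj : Function.Injective (algebraMap R B)) :
    letI : Algebra R (AlgebraicClosure K) := ((algebraMap K _).comp (algebraMap R K)).toAlgebra
    IsDomain (AlgebraicClosure K ⊗[R] B) := by
  letI : Algebra R (AlgebraicClosure K) := ((algebraMap K _).comp (algebraMap R K)).toAlgebra
  let Ω := AlgebraicClosure K
  have hΩ : Function.Injective (algebraMap R Ω) :=
    (algebraMap K Ω).injective.comp (IsFractionRing.injective R K)
  haveI : Module.IsTorsionFree R Ω := Module.isTorsionFree_iff_algebraMap_injective.mpr hΩ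
  haveI : Nontrivial (Ω ⊗[R] B) := by
    have h1 : Function.Injective (LinearMap.lTensor Ω (Algebra.linearMap R B)) :=
      Module.Flat.lTensor_preserves_injective_linearMap _ hinj
    exact (h1.comp (TensorProduct.rid R Ω).symm.injective).nontrivial
  let sΩ : Spec (CommRingCat.of Ω) ⟶ Spec (CommRingCat.of R) :=
    Spec.map (CommRingCat.ofHom (algebraMap R Ω))
  have hs : sΩ = Spec.map (CommRingCat.ofHom (algebraMap K Ω)) ≫ sK R K := by
    rw [← Spec.map_comp]; rfl
  haveI : IsIntegral (pullback f sΩ) := by
    have h := GeometricallyIntegral.geometrically_isIntegral (f := pullback.snd f (sK R K))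
      (Spec.map (CommRingCat.ofHom (algebraMap K Ω))) (pullback.fst _ _) (pullback.snd _ _)
      (IsPullback.of_hasPullback _ _)
    let i := pullbackLeftPullbackSndIso f (sK R K) (Spec.map (CommRingCat.ofHom (algebraMap K Ω))) ≪≫
      pullback.congrHom rfl hs.symm
    haveI := h
    haveI : Nonempty ↥(pullback f sΩ) := ⟨i.hom (Classical.arbitrary _)⟩
    exact isIntegral_of_isOpenImmersion i.inv
  let m : pullback sΩ (Spec.map (CommRingCat.ofHom (algebraMap R B))) ⟶ pullback sΩ f :=
    pullback.map _ _ _ _ (𝟙 _) e (𝟙 _) (by simp) (by simp [he])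
  haveI : IsOpenImmersion m := inferInstanceAs (IsOpenImmersion (pullback.map ..))
  let j : Spec (CommRingCat.of (Ω ⊗[R] B)) ⟶ pullback f sΩ :=
    (pullbackSpecIso R Ω B).inv ≫ m ≫ (pullbackSymmetry _ _).hom
  haveI : Nonempty ↥(Spec (CommRingCat.of (Ω ⊗[R] B))) := inferInstanceAs (Nonempty (PrimeSpectrum _))
  exact (affine_isIntegral_iff _).mp (isIntegral_of_isOpenImmersion j)

theorem isProper_of_fibres [IsIntegral X] [IsSeparated f] [LocallyOfFiniteType f] [QuasiCompact f]
    [GeometricallyIntegral (pullback.snd f (sK R K))] [IsProper (pullback.snd f (sK R K))]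
    [IsProper (pullback.snd f (sk R))] [Nonempty ↥(pullback f (sk R))] : IsProper f := by
  classical
  obtain ⟨N, X', π, q, U, hX', hπ, hπs, hq, hqm, hUne, hU, hqft, -⟩ := ChowLib.exists_chow f
  haveI : IsProper (ProjSpace.toSpec N R) := ProjCoord.isProper_baseMap (n := N) (R := R)
  haveI : QuasiCompact (q ≫ ProjSpace.toSpec N R) := by rw [hq]; infer_instance
  haveI : QuasiCompact q := QuasiCompact.of_comp q (ProjSpace.toSpec N R)
  haveI : CompactSpace ↥(ProjSpace N R) :=
    QuasiCompact.compactSpace_of_compactSpace (ProjSpace.toSpec N R)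
  haveI : QuasiSeparatedSpace ↥(ProjSpace N R) :=
    quasiSeparatedSpace_of_quasiSeparated (ProjSpace.toSpec N R)
  obtain ⟨T, j, τ, hj, hjq, hτ, hjτ⟩ := ZMT.exists_openImmersion_finite q
  let Z := j.image
  let i : X' ⟶ Z := j.toImage
  let g : Z ⟶ Spec (CommRingCat.of R) := j.imageι ≫ τ ≫ ProjSpace.toSpec N R
  have hig : i ≫ g = π ≫ f := by
    rw [← Category.assoc, Scheme.Hom.toImage_imageι, ← Category.assoc, hjτ, hq]
  haveI : IsReduced Z := by
    change IsReduced j.ker.subscheme
    rw [SchImageLib.ker_eq_vanishingIdeal]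
    exact FpqcDescent.isReduced_subscheme_vanishingIdeal _
  haveI : IrreducibleSpace Z := by
    refine { toPreirreducibleSpace := ⟨?_⟩, toNonempty := ⟨i (Classical.arbitrary _)⟩ }
    have h := ((IrreducibleSpace.isIrreducible_univ X').image _ i.continuous.continuousOn).isPreirreducible.closure
    rwa [Set.image_univ, i.denseRange.closure_range] at h
  haveI : IsIntegral Z := isIntegral_of_irreducibleSpace_of_isReduced _
  haveI : IsProper g := inferInstanceAs (IsProper (j.imageι ≫ τ ≫ ProjSpace.toSpec N R))
  -- the global functions of `Z`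
  have hgη : ∃ x : X, f x ∈ Set.range (sK R K) := by
    haveI := GeometricallyIntegral.geometrically_isIntegral (f := pullback.snd f (sK R K))
      (Spec.map (CommRingCat.ofHom (algebraMap K K))) (pullback.fst _ _) (pullback.snd _ _)
      (IsPullback.of_hasPullback _ _)
    let y := pullback.fst (pullback.snd f (sK R K)) (Spec.map (CommRingCat.ofHom (algebraMap K K)))
      (Classical.arbitrary _)
    refine ⟨pullback.fst f (sK R K) y, pullback.snd f (sK R K) y, ?_⟩
    change (pullback.snd f (sK R K) ≫ sK R K) y = (pullback.fst f (sK R K) ≫ f) y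
    rw [pullback.condition]
  have hη0 : (f (genericPoint X) : PrimeSpectrum R).asIdeal = ⊥ := by
    obtain ⟨x, t, ht⟩ := hgη
    have h1 : f (genericPoint X) ⤳ f x := (genericPoint_specializes x).map f.continuous
    have h2 : (f x : PrimeSpectrum R).asIdeal = ⊥ := by
      rw [← ht]
      change Ideal.comap (algebraMap R K) (t : PrimeSpectrum K).asIdeal = ⊥
      have ht0 : (t : PrimeSpectrum K).asIdeal = ⊥ :=
        ((Ideal.eq_bot_or_top _).resolve_right (t : PrimeSpectrum K).2.ne_top)
      rw [ht0, ← RingHom.ker_eq_comap_bot,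
        (RingHom.injective_iff_ker_eq_bot (algebraMap R K)).mp (IsFractionRing.injective R K)]
    exact le_bot_iff.mp (h2 ▸ (PrimeSpectrum.le_iff_specializes _ _).mpr h1)
  have hbij : Function.Bijective g.appTop.hom := by
    obtain ⟨u₀, hu₀⟩ := hUne
    obtain ⟨_, ⟨V, hV, rfl⟩, hu₀V, hVU⟩ := X.isBasis_affineOpens.exists_subset_of_mem_open
      (show u₀ ∈ (U : Set X) from hu₀) U.2
    let B := Γ(X, V)
    let e : Spec B ⟶ X := hV.fromSpec
    haveI : IsOpenImmersion e := hV.isOpenImmersion_fromSpec
    have hre : Set.range e = (V : Set X) := hV.range_fromSpec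
    have heU : Set.range e ⊆ Set.range U.ι := by
      rw [hre, Scheme.Opens.range_ι]; exact hVU
    let e' : Spec B ⟶ U := IsOpenImmersion.lift U.ι e heU
    haveI : IsOpenImmersion e' := by
      have : IsOpenImmersion (e' ≫ U.ι) := by rw [IsOpenImmersion.lift_fac]; infer_instance
      exact IsOpenImmersion.of_comp e' U.ι
    haveI := hU
    let σ : Spec B ⟶ Z := e' ≫ inv (π ∣_ U) ≫ (π ⁻¹ᵁ U).ι ≫ i
    have hσ : σ ≫ g = e ≫ f := by
      simp only [σ, Category.assoc, hig]
      rw [← Category.assoc (π ⁻¹ᵁ U).ι, ← morphismRestrict_ι, ← Category.assoc (inv _),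
        IsIso.inv_hom_id_assoc, IsOpenImmersion.lift_fac_assoc]
    letI : Algebra R B := ((Spec.preimage (e ≫ f)).hom).toAlgebra
    have he : e ≫ f = Spec.map (CommRingCat.ofHom (algebraMap R B)) := (Spec.map_preimage _).symm
    haveI : Nonempty ↥(Spec B) := by
      obtain ⟨w, -⟩ : u₀ ∈ Set.range e := by rw [hre]; exact hu₀V
      exact ⟨w⟩
    have hinjB : Function.Injective (algebraMap R B) := by
      obtain ⟨w, hw⟩ : genericPoint X ∈ Set.range e := by
        rw [hre]
        exact (genericPoint_specializes u₀).mem_open V.2 hu₀V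
      have h1 : Spec.map (CommRingCat.ofHom (algebraMap R B)) w = f (genericPoint X) := by
        rw [← he, ← hw]; rfl
      rw [RingHom.injective_iff_ker_eq_bot, eq_bot_iff]
      intro r hr
      rw [← hη0, ← h1]
      change algebraMap R B r ∈ (w : PrimeSpectrum B).asIdeal
      rw [RingHom.mem_ker.mp hr]
      exact zero_mem _
    let S := Γ(Z, ⊤)
    let c : R →+* S := ((Scheme.ΓSpecIso (CommRingCat.of R)).inv ≫ g.appTop).hom
    letI : Algebra R S := c.toAlgebra
    haveI : Module.Finite R S := RingHom.finite_algebraMap.mp (SteinLead.finite_appTop_of_isProper g)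
    have hc : ∀ r, UnitsProd.ev σ (c r) = algebraMap R B r := by
      intro r
      change UnitsProd.ev σ (g.appTop ((Scheme.ΓSpecIso (CommRingCat.of R)).inv r)) = _
      rw [← UnitsProd.ev_comp, hσ, he]
      change ((Spec.map _).appTop ≫ (Scheme.ΓSpecIso _).hom).hom
        ((Scheme.ΓSpecIso (CommRingCat.of R)).inv r) = _
      rw [Scheme.ΓSpecIso_naturality]
      exact congrArg (algebraMap R B)
        ((Scheme.ΓSpecIso (CommRingCat.of R)).commRingCatIsoToRingEquiv.apply_symm_apply r)
    let φ : S →ₐ[R] B := { toRingHom := UnitsProd.ev σ, commutes' := hc }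
    have hcinj : Function.Injective (algebraMap R S) := fun a b h => hinjB (by
      rw [← hc a, ← hc b]; exact congrArg _ h)
    letI : Algebra R (AlgebraicClosure K) := ((algebraMap K _).comp (algebraMap R K)).toAlgebra
    haveI := isDomain_baseChange K f e he hinjB
    have hb := algebraMap_bijective_of_domain (R := R) (AlgebraicClosure K)
      (show Function.Injective ((algebraMap K (AlgebraicClosure K)).comp (algebraMap R K)) from
        (algebraMap K (AlgebraicClosure K)).injective.comp (IsFractionRing.injective R K)) hcinj φ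
      (UnitsProd.ev_injective σ)
    have : g.appTop.hom = c.comp (Scheme.ΓSpecIso (CommRingCat.of R)).hom.hom := by
      change _ = ((Scheme.ΓSpecIso (CommRingCat.of R)).hom ≫
        (Scheme.ΓSpecIso (CommRingCat.of R)).inv ≫ g.appTop).hom
      rw [Iso.hom_inv_id_assoc]
    rw [this]
    exact hb.comp (ConcreteCategory.bijective_of_isIso (Scheme.ΓSpecIso (CommRingCat.of R)).hom)
  have hconn : GeometricallyConnected g :=
    FormalFun.geometricallyConnected_of_isIso_app g
      (FormalFun.isIso_app_of_cover g (fun _ : PUnit.{1} => ⊤) (fun _ => isAffineOpen_top _)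
        (fun _ => ⟨⟨⟩, trivial⟩) (fun _ => hbij))
  -- `i` is surjective
  have hclosed : ∀ {T : Scheme.{u}} (s : T ⟶ Spec (CommRingCat.of R)),
      IsProper (pullback.snd f s) →
        IsClosed ((pullback.fst g s).base ⁻¹' Set.range i) := by
    intro T s hs
    let iT : pullback (i ≫ g) s ⟶ pullback g s :=
      pullback.map _ _ _ _ i (𝟙 _) (𝟙 _) (by simp) (by simp)
    let πT : pullback (i ≫ g) s ⟶ pullback f s :=
      pullback.map _ _ _ _ π (𝟙 _) (𝟙 _) (by simp [hig]) (by simp)
    haveI : IsProper πT := by
      have h : IsPullback (pullback.fst (i ≫ g) s) πT π (pullback.fst f s) := by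
        refine IsPullback.of_bot ?_ (pullback.lift_fst _ _ _).symm (IsPullback.of_hasPullback f s)
        have e1 : πT ≫ pullback.snd f s = pullback.snd (i ≫ g) s :=
          (pullback.lift_snd _ _ _).trans (Category.comp_id _)
        rw [e1, ← hig]
        exact IsPullback.of_hasPullback _ _
      exact MorphismProperty.of_isPullback h hπ
    haveI : IsProper (iT ≫ pullback.snd g s) := by
      have : iT ≫ pullback.snd g s = πT ≫ pullback.snd f s :=
        (pullback.lift_snd _ _ _).trans (pullback.lift_snd _ _ _).symm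
      rw [this]; infer_instance
    haveI : IsProper iT := IsProper.of_comp iT (pullback.snd g s)
    have := iT.isClosedMap.isClosed_range
    rwa [show Set.range iT = (pullback.fst g s).base ⁻¹' Set.range i by
      rw [show iT = pullback.map (i ≫ g) s g s i (𝟙 _) (𝟙 _) (by simp) (by simp) from rfl,
        Scheme.Pullback.range_map]
      simp] at this
  have hsurj : Function.Surjective i := by
    have hopen : IsOpen (Set.range i) := i.isOpenEmbedding.isOpen_range
    haveI := isOpenImmersion_sK (R := R) K
    intro z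
    rcases range_cases K (g z) with h | h
    · obtain ⟨w, rfl⟩ := mem_range_fst g (sK R K) h
      by_contra hne
      obtain ⟨z', ⟨w', hw', rfl⟩, hz'⟩ := i.denseRange.inter_open_nonempty _
        ((pullback.fst g (sK R K)).isOpenEmbedding.isOpenMap _ (hclosed (sK R K) ‹_›).isOpen_compl)
        ⟨_, w, hne, rfl⟩
      exact hw' hz'
    · obtain ⟨w, rfl⟩ := mem_range_fst g (sk R) h
      haveI : ConnectedSpace ↥(pullback g (sk R)) :=
        hconn.geometrically_connectedSpace (sk R) (pullback.fst _ _) (pullback.snd _ _)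
          (IsPullback.of_hasPullback _ _)
      have hclopen : IsClopen ((pullback.fst g (sk R)).base ⁻¹' Set.range i) :=
        ⟨hclosed (sk R) ‹_›, hopen.preimage (pullback.fst g (sk R)).continuous⟩
      have hne : ((pullback.fst g (sk R)).base ⁻¹' Set.range i).Nonempty := by
        obtain ⟨w₀⟩ := ‹Nonempty ↥(pullback f (sk R))›
        obtain ⟨x', hx'⟩ := hπs.1 (pullback.fst f (sk R) w₀)
        have : g (i x') ∈ Set.range (sk R) := by
          rw [← Scheme.Hom.comp_apply, hig, Scheme.Hom.comp_apply, hx', ← Scheme.Hom.comp_apply,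
            pullback.condition, Scheme.Hom.comp_apply]
          exact ⟨_, rfl⟩
        obtain ⟨w₁, hw₁⟩ := mem_range_fst g (sk R) this
        exact ⟨w₁, x', hw₁.symm⟩
      have := hclopen.eq_univ hne
      exact (Set.eq_univ_iff_forall.mp this w : _)
  haveI : Surjective i := ⟨hsurj⟩
  haveI : IsIso i := IsOpenImmersion.isIso i
  haveI : IsProper (π ≫ f) := by rw [← hig]; infer_instance
  haveI : UniversallyClosed f := UniversallyClosed.of_comp_surjective π f
  exact ⟨⟩

end Groth.Agent.DVRProper
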